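import Groth.Prelude.Def_ConstAct
import Mathlib.RingTheory.LocalRing.Module
import Mathlib.RingTheory.Filtration
import Mathlib.RingTheory.Nakayama
import Mathlib.RingTheory.LocalRing.ResidueField.Basic
import Mathlib.LinearAlgebra.TensorProduct.Tower
import Mathlib.LinearAlgebra.FiniteDimensional.Basic

/-!
Invariants of a finite group generated by pseudo-reflections.
-/

set_option autoImplicit false

noncomputable section

universe u

open TensorProduct IsLocalRing

set_option synthInstance.maxHeartbeats 200000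
set_option maxHeartbeats 1000000

namespace PseudoReflLib

variable {k : Type u} [Field k] {A : Type u} [CommRing A] [Algebra k A] [IsLocalRing A] [IsNoetherianRing A]
  {G : Type u} [Group G] [Finite G] [MulSemiringAction G A] [SMulCommClass G k A]

omit [Algebra k A] [IsNoetherianRing A] [Finite G] [SMulCommClass G k A] in
theorem smul_mem_max (g : G) {a : A} (ha : a ∈ maximalIdeal A) : g • a ∈ maximalIdeal A := by
  rw [mem_maximalIdeal] at ha ⊢
  intro hu
  have := hu.map (MulSemiringAction.toRingHom G A g⁻¹)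
  simp only [MulSemiringAction.toRingHom_apply, inv_smul_smul] at this
  exact ha this

omit [IsNoetherianRing A] [Finite G] [SMulCommClass G k A] in
/-- Membership in an ideal from its approximations. -/
theorem sub_mem_sup_pow (hres : ∀ a : A, ∃ c : k, a - algebraMap k A c ∈ maximalIdeal A)
    (g : G) (hgk : ∀ c : k, g • algebraMap k A c = algebraMap k A c) (Y : Set A)
    (hY : Ideal.span Y = maximalIdeal A) (I : Ideal A) (hI : ∀ y ∈ Y, g • y - y ∈ I) :
    ∀ (N : ℕ) (a : A), g • a - a ∈ I ⊔ maximalIdeal A ^ N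
  | 0, a => by simp
  | N + 1, a => by
    obtain ⟨c, hc⟩ := hres a
    suffices H : ∀ z ∈ Ideal.span Y, g • z - z ∈ I ⊔ maximalIdeal A ^ (N + 1) by
      have e : g • a - a = g • (a - algebraMap k A c) - (a - algebraMap k A c) := by
        rw [smul_sub, hgk]; ring
      rw [e]; exact H _ (hY ▸ hc)
    intro z hz
    induction hz using Submodule.span_induction with
    | mem y hy => exact Submodule.mem_sup_left (hI y hy)
    | zero => simp
    | add s t _ _ hs ht =>
      rw [smul_add, show g • s + g • t - (s + t) = (g • s - s) + (g • t - t) by ring]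
      exact add_mem hs ht
    | smul b s hs' hs =>
      have e : g • (b • s) - b • s = (g • b - b) * g • s + b * (g • s - s) := by
        rw [smul_eq_mul, smul_mul']; ring
      rw [e]
      refine add_mem ?_ (Ideal.mul_mem_left _ _ hs)
      have h1 := sub_mem_sup_pow hres g hgk Y hY I hI N b
      have h2 : g • s ∈ maximalIdeal A := smul_mem_max g (hY ▸ hs')
      have h3 := Ideal.mul_mem_mul h1 h2
      rw [Ideal.sup_mul, ← pow_succ] at h3
      have hle : I * maximalIdeal A ⊔ maximalIdeal A ^ (N + 1) ≤ I ⊔ maximalIdeal A ^ (N + 1) :=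
        sup_le_sup_right Ideal.mul_le_left _
      first | exact hle h3 | exact (sup_le_sup_right Ideal.mul_le_right _ : I * maximalIdeal A ⊔ _ ≤ I ⊔ _) h3

omit [Finite G] [SMulCommClass G k A] in
/-- Krull intersection. -/
theorem mem_of_forall_mem_sup_pow (I : Ideal A) {x : A} (h : ∀ N, x ∈ I ⊔ maximalIdeal A ^ N) : x ∈ I := by
  by_cases htop : I = ⊤
  · simp [htop]
  haveI : Nontrivial (A ⧸ I) := Ideal.Quotient.nontrivial_iff.2 htop
  haveI : IsLocalRing (A ⧸ I) := IsLocalRing.of_surjective' (Ideal.Quotient.mk I) Ideal.Quotient.mk_surjective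
  rw [← Ideal.Quotient.eq_zero_iff_mem]
  have h1 : Ideal.Quotient.mk I x ∈ ⨅ N : ℕ, maximalIdeal (A ⧸ I) ^ N := Ideal.mem_iInf.2 fun N => by
    have h2 := Ideal.mem_map_of_mem (Ideal.Quotient.mk I) (h N)
    rw [Ideal.map_sup, Ideal.map_quotient_self, bot_sup_eq, Ideal.map_pow,
      IsLocalRing.map_maximalIdeal_of_surjective _ Ideal.Quotient.mk_surjective] at h2
    exact h2
  rw [Ideal.iInf_pow_eq_bot_of_isLocalRing _ (maximalIdeal.isMaximal _).ne_top] at h1
  exact h1

/-- The ideal of a pseudo-reflection is principal. -/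
theorem exists_generator (hres : ∀ a : A, ∃ c : k, a - algebraMap k A c ∈ maximalIdeal A) (n : ℕ)
    (x : Fin n → A) (hx : Ideal.span (Set.range x) = maximalIdeal A) (hG : (Nat.card G : k) ≠ 0) (g : G)
    (hg : n ≤ Module.finrank k (A ⧸ (Ideal.span {z : A | ∃ a, z = g • a - a} ⊔ maximalIdeal A ^ 2))) :
    ∃ w ∈ maximalIdeal A, ∀ a, ∃ b, g • a - a = w * b := by
  classical
  haveI := Fintype.ofFinite G
  let m := maximalIdeal A
  have hgk : ∀ (h : G) (c : k), h • algebraMap k A c = algebraMap k A c := fun h c => by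
    rw [Algebra.algebraMap_eq_smul_one, smul_comm, smul_one]
  let I := Ideal.span {z : A | ∃ a, z = g • a - a}
  let d := orderOf g
  have hd : (d : k) ≠ 0 := fun h0 => hG (by
    obtain ⟨e, he⟩ := orderOf_dvd_natCard g
    rw [he, Nat.cast_mul, show ((orderOf g : ℕ) : k) = 0 from h0, zero_mul])
  let P : A → A := fun a => (d : k)⁻¹ • ∑ j ∈ Finset.range d, (g ^ j) • a
  have hP : ∀ a, g • P a = P a := fun a => by
    show g • ((d : k)⁻¹ • _) = _
    rw [smul_comm, Finset.smul_sum]
    congr 1
    have e1 := Finset.sum_range_succ' (fun j => (g ^ j) • a) d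
    have e2 := Finset.sum_range_succ (fun j => (g ^ j) • a) d
    rw [e2, pow_orderOf_eq_one, pow_zero, one_smul] at e1
    calc ∑ j ∈ Finset.range d, g • (g ^ j) • a = ∑ j ∈ Finset.range d, (g ^ (j + 1)) • a :=
          Finset.sum_congr rfl fun j _ => by rw [← mul_smul, ← pow_succ']
      _ = _ := (add_right_cancel e1).symm
  have hsub : ∀ (j : ℕ) (a : A), (g ^ j) • a - a ∈ I := fun j => by
    induction j with
    | zero => intro a; simp
    | succ j ih =>
      intro a
      rw [pow_succ, mul_smul, show g ^ j • g • a - a = (g ^ j • (g • a) - g • a) + (g • a - a) by ring]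
      exact add_mem (ih _) (Ideal.subset_span ⟨a, rfl⟩)
  have hQ : ∀ a, P a - a ∈ I := fun a => by
    have e : P a - a = (d : k)⁻¹ • ∑ j ∈ Finset.range d, ((g ^ j) • a - a) := by
      rw [Finset.sum_sub_distrib, smul_sub, Finset.sum_const, Finset.card_range, ← Nat.cast_smul_eq_nsmul k,
        smul_smul, inv_mul_cancel₀ hd, one_smul]
    rw [e, Algebra.smul_def]
    exact Ideal.mul_mem_left _ _ (sum_mem fun j _ => hsub j a)
  have hPm : ∀ a ∈ m, P a ∈ m := fun a ha => by
    show (d : k)⁻¹ • _ ∈ m
    rw [Algebra.smul_def]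
    exact Ideal.mul_mem_left _ _ (sum_mem fun j _ => smul_mem_max _ ha)
  have hIm : I ≤ m := Ideal.span_le.2 fun z ⟨a, hz⟩ => by
    subst hz
    obtain ⟨c, hc⟩ := hres a
    show g • a - a ∈ m
    have e : g • a - a = g • (a - algebraMap k A c) - (a - algebraMap k A c) := by
      rw [smul_sub, hgk]; ring
    rw [e]
    exact sub_mem (smul_mem_max g hc) hc
  have hxm : ∀ i, x i ∈ m := fun i => hx.le (Ideal.subset_span ⟨i, rfl⟩)
  -- at most one direction moves
  have hone : ∀ u ∈ I, u ∉ m ^ 2 → I ≤ Ideal.span {u} ⊔ m ^ 2 := by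
    intro u hu hu2
    let K := Ideal.span {u} ⊔ m ^ 2
    let gens : Option (Fin n) → A ⧸ m ^ 2 := fun o => o.elim 1 fun i => Ideal.Quotient.mk (m ^ 2) (x i)
    have hspan : Submodule.span k (Set.range gens) = ⊤ := by
      refine eq_top_iff.2 fun q _ => ?_
      obtain ⟨a, rfl⟩ := Ideal.Quotient.mk_surjective q
      obtain ⟨c, hc⟩ := hres a
      obtain ⟨b, hb⟩ := (Ideal.mem_span_range_iff_exists_fun).1 (hx.ge hc)
      choose e he using fun i => hres (b i)
      have h1 : Ideal.Quotient.mk (m ^ 2) a = c • gens none + ∑ i, e i • gens (some i) := by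
        have h2 : a - (algebraMap k A c + ∑ i, algebraMap k A (e i) * x i) ∈ m ^ 2 := by
          have e2 : a - (algebraMap k A c + ∑ i, algebraMap k A (e i) * x i) =
              ∑ i, (b i - algebraMap k A (e i)) * x i := by
            simp only [sub_mul, Finset.sum_sub_distrib]
            rw [hb]; ring
          rw [e2, pow_two]
          exact sum_mem fun i _ => Ideal.mul_mem_mul (he i) (hxm i)
        rw [(Ideal.Quotient.mk_eq_mk_iff_sub_mem _ _).2 h2, map_add, map_sum]
        congr 1
        · simp [gens, Algebra.smul_def, Ideal.Quotient.mk_algebraMap]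
        · refine Finset.sum_congr rfl fun i _ => ?_
          rw [map_mul, Algebra.smul_def, Ideal.Quotient.mk_algebraMap]
          rfl
      rw [h1]
      exact add_mem (Submodule.smul_mem _ _ (Submodule.subset_span ⟨none, rfl⟩))
        (sum_mem fun i _ => Submodule.smul_mem _ _ (Submodule.subset_span ⟨some i, rfl⟩))
    haveI : Module.Finite k (A ⧸ m ^ 2) :=
      ⟨⟨Finset.univ.image gens, by rw [Finset.coe_image, Finset.coe_univ, Set.image_univ, hspan]⟩⟩
    have hfin : Module.finrank k (A ⧸ m ^ 2) ≤ n + 1 := by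
      rw [← finrank_top k (A ⧸ m ^ 2), ← hspan]
      exact (finrank_range_le_card gens).trans (by simp)
    let f : (A ⧸ m ^ 2) →ₗ[k] A ⧸ K := (Ideal.Quotient.factorₐ k (le_sup_right : m ^ 2 ≤ K)).toLinearMap
    have hf : Function.Surjective f := fun q => by
      obtain ⟨a, rfl⟩ := Ideal.Quotient.mk_surjective q
      exact ⟨Ideal.Quotient.mk _ a, rfl⟩
    have hlt : Module.finrank k (A ⧸ K) < Module.finrank k (A ⧸ m ^ 2) := by
      rw [← f.finrank_range_add_finrank_ker, LinearMap.range_eq_top.2 hf, finrank_top]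
      refine Nat.lt_add_of_pos_right (Module.finrank_pos_iff_exists_ne_zero.2 ⟨⟨Ideal.Quotient.mk _ u, ?_⟩, ?_⟩)
      · show f (Ideal.Quotient.mk (m ^ 2) u) = 0
        exact Ideal.Quotient.eq_zero_iff_mem.2 (Ideal.mem_sup_left (Ideal.mem_span_singleton_self u))
      · exact fun h => hu2 (Ideal.Quotient.eq_zero_iff_mem.1 (congrArg Subtype.val h))
    haveI : Module.Finite k (A ⧸ K) := Module.Finite.of_surjective f hf
    have hKI : K ≤ I ⊔ m ^ 2 := sup_le_sup_right ((Ideal.span_singleton_le_iff_mem _).2 hu) _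
    let h : (A ⧸ K) →ₗ[k] A ⧸ (I ⊔ m ^ 2) := (Ideal.Quotient.factorₐ k hKI).toLinearMap
    have hh : Function.Surjective h := fun q => by
      obtain ⟨a, rfl⟩ := Ideal.Quotient.mk_surjective q
      exact ⟨Ideal.Quotient.mk _ a, rfl⟩
    haveI : Module.Finite k (A ⧸ (I ⊔ m ^ 2)) := Module.Finite.of_surjective h hh
    have heq : Module.finrank k (A ⧸ K) = Module.finrank k (A ⧸ (I ⊔ m ^ 2)) :=
      le_antisymm (by
        have : n ≤ Module.finrank k (A ⧸ (I ⊔ m ^ 2)) := hg
        omega) (LinearMap.finrank_le_finrank_of_surjective (f := h) hh)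
    intro v hv
    refine Ideal.Quotient.eq_zero_iff_mem.1 ((LinearMap.injective_iff_surjective_of_finrank_eq_finrank heq).2 hh ?_)
    exact (Ideal.Quotient.eq_zero_iff_mem.2 (Ideal.mem_sup_left hv)).trans (map_zero h).symm
  -- the moving coordinate
  obtain ⟨y₁, hy₁I, hy₁⟩ : ∃ y₁ ∈ I, ∀ i, P (x i) - x i ∈ Ideal.span {y₁} ⊔ m ^ 2 := by
    by_cases h : ∀ i, P (x i) - x i ∈ m ^ 2
    · exact ⟨0, zero_mem _, fun i => Ideal.mem_sup_right (h i)⟩
    · push Not at h
      obtain ⟨j, hj⟩ := h
      exact ⟨_, hQ (x j), fun i => hone _ (hQ (x j)) hj (hQ (x i))⟩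
  let Y : Set A := insert y₁ (Set.range fun i => P (x i))
  have hYm : Ideal.span Y ≤ m := Ideal.span_le.2 (by
    rintro z (rfl | ⟨i, rfl⟩)
    · exact hIm hy₁I
    · exact hPm _ (hxm i))
  have hY : Ideal.span Y = m := le_antisymm hYm (Submodule.le_of_le_smul_of_le_jacobson_bot
    (IsNoetherian.noetherian m) (maximalIdeal_le_jacobson ⊥) (by
      refine hx.ge.trans (Ideal.span_le.2 ?_)
      rintro z ⟨i, rfl⟩
      have h1 : Ideal.span {y₁} ⊔ m ^ 2 ≤ Ideal.span Y ⊔ m • m := by
        rw [smul_eq_mul, ← pow_two]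
        exact sup_le_sup_right (Ideal.span_mono (by simp [Y])) _
      have h2 : x i = P (x i) - (P (x i) - x i) := by ring
      show x i ∈ Ideal.span Y ⊔ m • m
      rw [h2]
      exact sub_mem (Submodule.mem_sup_left (Ideal.subset_span (Set.mem_insert_of_mem _ ⟨i, rfl⟩))) (h1 (hy₁ i))))
  refine ⟨g • y₁ - y₁, sub_mem (smul_mem_max g (hIm hy₁I)) (hIm hy₁I), fun a => ?_⟩
  have h1 : g • a - a ∈ Ideal.span {g • y₁ - y₁} := mem_of_forall_mem_sup_pow _
    (fun N => sub_mem_sup_pow hres g (hgk g) Y hY _ (by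
      rintro z (rfl | ⟨i, rfl⟩)
      · exact Ideal.mem_span_singleton_self _
      · rw [hP, sub_self]; exact zero_mem _) N a)
  obtain ⟨b, hb⟩ := Ideal.mem_span_singleton.1 h1
  exact ⟨b, hb⟩

section inv

variable [IsDomain A]

local notation "S" => ConstAct.inv k A G

omit [IsLocalRing A] [IsNoetherianRing A] [IsDomain A] in
/-- The averaging projection. -/
theorem exists_reynolds (hG : (Nat.card G : k) ≠ 0) :
    ∃ P : A →ₗ[S] S, (∀ s : S, P s = s) ∧
      ∀ a, (Nat.card G : k) • ((P a : S) : A) = ∑ᶠ g : G, g • a := by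
  classical
  haveI := Fintype.ofFinite G
  have hsum : ∀ a : A, (Nat.card G : k)⁻¹ • ∑ g : G, g • a ∈ S := fun a => by
    rw [ConstAct.mem_inv]
    intro h
    rw [smul_comm, Finset.smul_sum]
    congr 1
    simp_rw [← mul_smul]
    exact Fintype.sum_equiv (Equiv.mulLeft h) _ _ fun g => rfl
  let P : A →ₗ[S] S :=
    { toFun := fun a => ⟨(Nat.card G : k)⁻¹ • ∑ g : G, g • a, hsum a⟩
      map_add' := fun a b => Subtype.ext (by simp [Finset.sum_add_distrib, smul_add])
      map_smul' := fun s a => Subtype.ext (by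
        show (Nat.card G : k)⁻¹ • ∑ g : G, g • ((s : A) * a) = (s : A) * ((Nat.card G : k)⁻¹ • ∑ g : G, g • a)
        simp_rw [smul_mul', fun g => (ConstAct.mem_inv k A G (s : A)).1 s.2 g]
        rw [← Finset.mul_sum, mul_smul_comm]) }
  refine ⟨P, fun s => Subtype.ext ?_, fun a => ?_⟩
  · show (Nat.card G : k)⁻¹ • ∑ g : G, g • (s : A) = s
    simp_rw [fun g => (ConstAct.mem_inv k A G (s : A)).1 s.2 g]
    rw [Finset.sum_const, Finset.card_univ, ← Nat.card_eq_fintype_card, ← Nat.cast_smul_eq_nsmul k, smul_smul,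
      inv_mul_cancel₀ hG, one_smul]
  · show (Nat.card G : k) • ((Nat.card G : k)⁻¹ • ∑ g : G, g • a) = _
    rw [smul_smul, mul_inv_cancel₀ hG, one_smul, finsum_eq_sum_of_fintype]

/-- The main theorem. -/
theorem main [Module.Finite S A] (hG : (Nat.card G : k) ≠ 0) (R : Set G) (hR : Subgroup.closure R = ⊤)
    (hw : ∀ g ∈ R, ∃ w ∈ maximalIdeal A, ∀ a, ∃ b, g • a - a = w * b) :
    IsLocalRing S ∧ IsNoetherianRing S ∧ IsLocalHom (algebraMap S A) ∧ Module.Flat S A := by
  classical
  haveI := Fintype.ofFinite G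
  obtain ⟨P, hP, hPsum⟩ := exists_reynolds (k := k) (A := A) (G := G) hG
  have hunit : ∀ s : S, IsUnit (s : A) → IsUnit s := fun s ⟨u, hu⟩ => by
    have hmem : ((u⁻¹ : Aˣ) : A) ∈ S := by
      rw [ConstAct.mem_inv]
      intro h
      have h1 : h • (u : A) = u := by rw [hu]; exact (ConstAct.mem_inv k A G (s : A)).1 s.2 h
      have h2 : h • ((u⁻¹ : Aˣ) : A) * (u : A) = 1 := by
        conv_lhs => rw [← h1]
        rw [← smul_mul', Units.inv_mul, smul_one]
      calc h • ((u⁻¹ : Aˣ) : A) = h • ((u⁻¹ : Aˣ) : A) * ((u : A) * ((u⁻¹ : Aˣ) : A)) := by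
            rw [Units.mul_inv, mul_one]
        _ = ((u⁻¹ : Aˣ) : A) := by rw [← mul_assoc, h2, one_mul]
    exact IsUnit.of_mul_eq_one (b := ⟨_, hmem⟩) (Subtype.ext (by
      show (s : A) * ((u⁻¹ : Aˣ) : A) = 1
      rw [← hu, Units.mul_inv]))
  haveI hloc : IsLocalHom (algebraMap S A) := ⟨fun s hs => hunit s hs⟩
  haveI : IsLocalRing S := RingHom.domain_isLocalRing (algebraMap S A)
  haveI hN : IsNoetherianRing S := by
    rw [isNoetherianRing_iff, isNoetherian_iff']
    refine StrictMono.wellFoundedGT (f := fun J : Ideal S => J.map (algebraMap S A)) ?_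
    have hback : ∀ J : Ideal S, ∀ s : S, algebraMap S A s ∈ J.map (algebraMap S A) → s ∈ J := fun J s hs => by
      rw [← hP s]
      have key : ∀ z ∈ J.map (algebraMap S A), ∀ b : A, P (b * z) ∈ J := fun z hz => by
        induction hz using Submodule.span_induction with
        | mem z hz =>
          obtain ⟨j, hj, rfl⟩ := hz
          intro b
          rw [mul_comm, ← Algebra.smul_def, map_smul]
          exact J.mul_mem_right _ hj
        | zero => intro b; simp
        | add y z _ _ hy hz => intro b; rw [mul_add, map_add]; exact add_mem (hy b) (hz b)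
        | smul c z _ hz => intro b; rw [smul_eq_mul, ← mul_assoc]; exact hz _
      have := key _ hs 1
      rwa [one_mul] at this
    intro J J' hlt
    refine lt_of_le_of_ne (Ideal.map_mono hlt.le) fun he => ?_
    obtain ⟨s, hs, hs'⟩ := SetLike.exists_of_lt hlt
    exact hs' (hback J s (by
      have : Ideal.map (algebraMap S A) J = Ideal.map (algebraMap S A) J' := he
      rw [this]; exact Ideal.mem_map_of_mem _ hs))
  refine ⟨inferInstance, hN, hloc, ?_⟩
  let 𝔫 := maximalIdeal S
  let μ : A ⊗[S] 𝔫 →ₗ[A] A := AlgebraTensorModule.lift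
    { toFun := fun a => a • (Algebra.linearMap S A ∘ₗ Submodule.subtype 𝔫)
      map_add' := fun a b => add_smul _ _ _
      map_smul' := fun a b => smul_assoc _ _ _ }
  have hμ : ∀ a (x : 𝔫), μ (a ⊗ₜ[S] x) = a * algebraMap S A x := fun a x => rfl
  let T := LinearMap.ker μ
  haveI : Module.Finite S 𝔫 := Module.Finite.iff_fg.2 (IsNoetherian.noetherian 𝔫)
  haveI : IsNoetherian A (A ⊗[S] 𝔫) := inferInstance
  let ρ : G → A →ₗ[S] A := fun g =>
    { toFun := fun a => g • a
      map_add' := fun a b => smul_add g a b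
      map_smul' := fun s a => by
        show g • ((s : A) * a) = (s : A) * g • a
        rw [smul_mul', (ConstAct.mem_inv k A G (s : A)).1 s.2 g] }
  let ρT : G → A ⊗[S] 𝔫 →ₗ[S] A ⊗[S] 𝔫 := fun g => (ρ g).rTensor 𝔫
  have hμρ : ∀ g t, μ (ρT g t) = g • μ t := fun g t => by
    induction t using TensorProduct.induction_on with
    | zero => simp
    | add s t hs ht => simp only [map_add, hs, ht, smul_add]
    | tmul a x =>
      show μ ((g • a) ⊗ₜ[S] x) = g • μ (a ⊗ₜ[S] x)
      rw [hμ, hμ, smul_mul', show g • algebraMap S A (x : S) = algebraMap S A (x : S) from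
        (ConstAct.mem_inv k A G _).1 (x : S).2 g]
  let M : Submodule A (A ⊗[S] 𝔫) := maximalIdeal A • T
  have hρsemi : ∀ g (a : A) t, ρT g (a • t) = (g • a) • ρT g t := fun g a t => by
    induction t using TensorProduct.induction_on with
    | zero => simp
    | add s t hs ht => simp only [smul_add, map_add, hs, ht]
    | tmul b x =>
      rw [TensorProduct.smul_tmul']
      show (g • (a * b)) ⊗ₜ[S] x = (g • a) • ((g • b) ⊗ₜ[S] x)
      rw [TensorProduct.smul_tmul', smul_mul', smul_eq_mul]
  have hρT : ∀ g, ∀ t ∈ T, ρT g t ∈ T := fun g t ht => by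
    show μ (ρT g t) = 0
    rw [hμρ, show μ t = 0 from ht, smul_zero]
  have hρM : ∀ g, ∀ t ∈ M, ρT g t ∈ M := fun g t ht => by
    refine Submodule.smul_induction_on ht (fun a ha z hz => ?_) fun y z hy hz => ?_
    · rw [hρsemi]; exact Submodule.smul_mem_smul (smul_mem_max g ha) (hρT g z hz)
    · rw [map_add]; exact add_mem hy hz
  have hgen : ∀ g ∈ R, ∀ t ∈ T, ρT g t - t ∈ M := fun g hg t ht => by
    obtain ⟨w, hwm, hwa⟩ := hw g hg
    by_cases hw0 : w = 0
    · have e : ρ g = LinearMap.id := LinearMap.ext fun a => by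
        obtain ⟨b, hb⟩ := hwa a
        rw [hw0, zero_mul, sub_eq_zero] at hb
        exact hb
      show (ρ g).rTensor 𝔫 t - t ∈ M
      rw [e, LinearMap.rTensor_id, LinearMap.id_apply, sub_self]
      exact zero_mem _
    choose D hD using hwa
    let Δ : A →ₗ[S] A :=
      { toFun := D
        map_add' := fun a b => mul_left_cancel₀ hw0 (by
          rw [mul_add, ← hD, ← hD, ← hD, smul_add]; ring)
        map_smul' := fun s a => mul_left_cancel₀ hw0 (by
          show w * D (s • a) = w * (s • D a)
          rw [mul_smul_comm, ← hD, ← hD, show g • (s • a) = s • (g • a) from (ρ g).map_smul s a, smul_sub]) }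
    have e : ∀ u, ρT g u - u = w • Δ.rTensor 𝔫 u := fun u => by
      induction u using TensorProduct.induction_on with
      | zero => simp
      | add y z hy hz => rw [map_add, map_add, smul_add, ← hy, ← hz]; abel
      | tmul a x =>
        show (g • a) ⊗ₜ[S] x - a ⊗ₜ[S] x = w • (D a ⊗ₜ[S] x)
        rw [← TensorProduct.sub_tmul, TensorProduct.smul_tmul', hD, smul_eq_mul]
    have hΔ : ∀ u, μ (Δ.rTensor 𝔫 u) * w = g • μ u - μ u := fun u => by
      rw [mul_comm, ← smul_eq_mul, ← map_smul, ← e, map_sub, hμρ]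
    rw [e]
    refine Submodule.smul_mem_smul hwm ?_
    show μ _ = 0
    have h1 := hΔ t
    rw [show μ t = 0 from ht, smul_zero, sub_self] at h1
    exact (mul_eq_zero.1 h1).resolve_right hw0
  have hall : ∀ g : G, ∀ t ∈ T, ρT g t - t ∈ M := fun g => by
    have hmul : ∀ a b t, ρT (a * b) t = ρT a (ρT b t) := fun a b t => by
      induction t using TensorProduct.induction_on with
      | zero => simp
      | add y z hy hz => simp only [map_add, hy, hz]
      | tmul c x => exact congrArg (· ⊗ₜ[S] x) (mul_smul a b c)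
    have hone' : ∀ t, ρT 1 t = t := fun t => by
      induction t using TensorProduct.induction_on with
      | zero => simp
      | add y z hy hz => simp only [map_add, hy, hz]
      | tmul c x => exact congrArg (· ⊗ₜ[S] x) (one_smul G c)
    have hg' : g ∈ Subgroup.closure R := hR ▸ Subgroup.mem_top g
    induction hg' using Subgroup.closure_induction with
    | mem x hx => exact hgen x hx
    | one => intro t _; rw [hone', sub_self]; exact zero_mem _
    | mul a b _ _ ha hb =>
      intro t ht
      rw [hmul, show ρT a (ρT b t) - t = ρT a (ρT b t - t) + (ρT a t - t) by rw [map_sub]; abel]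
      exact add_mem (hρM a _ (hb t ht)) (ha t ht)
    | inv a _ ha =>
      intro t ht
      have h1 := ha (ρT a⁻¹ t) (hρT _ t ht)
      rw [← hmul, mul_inv_cancel, hone'] at h1
      rw [← neg_sub]
      exact neg_mem h1
  have hT : T = ⊥ := by
    refine Submodule.eq_bot_of_le_smul_of_le_jacobson_bot (maximalIdeal A) T (IsNoetherian.noetherian T)
      (fun t ht => ?_) (maximalIdeal_le_jacobson ⊥)
    have hz : ∑ g : G, ρT g t = 0 := by
      have hP0 : ∀ u, ∑ g : G, ρT g u = (Nat.card G : k) •
          ((Algebra.linearMap S A).rTensor 𝔫 (P.rTensor 𝔫 u)) := fun u => by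
        induction u using TensorProduct.induction_on with
        | zero => simp
        | add y z hy hz => simp only [map_add, Finset.sum_add_distrib, hy, hz, smul_add]
        | tmul a x =>
          show ∑ g : G, (g • a) ⊗ₜ[S] x = (Nat.card G : k) • (((P a : S) : A) ⊗ₜ[S] x)
          rw [← TensorProduct.sum_tmul, TensorProduct.smul_tmul', hPsum, finsum_eq_sum_of_fintype]
      rw [hP0]
      have hPz : TensorProduct.lid S 𝔫 (P.rTensor 𝔫 t) = 0 := by
        refine Subtype.ext ?_
        have key : ∀ u, ((TensorProduct.lid S 𝔫 (P.rTensor 𝔫 u) : 𝔫) : S) = P (μ u) := fun u => by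
          induction u using TensorProduct.induction_on with
          | zero => simp
          | add y z hy hz => simp only [map_add, Submodule.coe_add, hy, hz]
          | tmul a x =>
            rw [hμ, mul_comm, ← Algebra.smul_def, map_smul, LinearMap.rTensor_tmul, TensorProduct.lid_tmul,
              Submodule.coe_smul, smul_eq_mul, smul_eq_mul, mul_comm]
        rw [key, show μ t = 0 from ht, map_zero]
        rfl
      rw [(TensorProduct.lid S 𝔫).map_eq_zero_iff.1 hPz, map_zero, smul_zero]
    have h1 : ∑ g : G, (ρT g t - t) ∈ M := sum_mem fun g _ => hall g t ht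
    rw [Finset.sum_sub_distrib, hz, zero_sub, Finset.sum_const, Finset.card_univ, ← Nat.card_eq_fintype_card,
      ← Nat.cast_smul_eq_nsmul A, neg_mem_iff] at h1
    have hu : IsUnit ((Nat.card G : ℕ) : A) := by
      rw [← map_natCast (algebraMap k A)]
      exact (isUnit_iff_ne_zero.2 hG).map _
    exact (Submodule.smul_mem_iff_of_isUnit M hu).1 h1
  haveI : Module.FinitePresentation S A := Module.finitePresentation_of_finite S A
  haveI : Module.Free S A := by
    refine Module.free_of_maximalIdeal_rTensor_injective ?_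
    have hμinj : Function.Injective μ := LinearMap.ker_eq_bot.1 hT
    have key : ∀ u : 𝔫 ⊗[S] A, μ (TensorProduct.comm S 𝔫 A u) =
        TensorProduct.lid S A ((Submodule.subtype 𝔫).rTensor A u) := fun u => by
      induction u using TensorProduct.induction_on with
      | zero => simp
      | add y z hy hz => simp only [map_add, hy, hz]
      | tmul x a =>
        rw [TensorProduct.comm_tmul, hμ, LinearMap.rTensor_tmul, TensorProduct.lid_tmul, Algebra.smul_def, mul_comm]
        rfl
    intro u v huv
    exact (TensorProduct.comm S 𝔫 A).injective (hμinj (by rw [key, key, huv]))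
  infer_instance

end inv

end PseudoReflLib
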